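import Groth.Agent.NRGIT.K850.Points
import Mathlib.AlgebraicGeometry.Morphisms.QuasiFinite

/-!
# Finiteness of stabilisers of geometric points, on points
-/

set_option autoImplicit false
universe u
open CategoryTheory MonoidalCategory CartesianMonoidalCategory MonObj GrpObj AlgebraicGeometry Topology

namespace K850.StabFin

open K850.Points

variable {S : Scheme.{u}}

section field

variable {Ω : Type u} [Field Ω] [IsAlgClosed Ω]

/-- Geometric points lift along surjective morphisms locally of finite type. -/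
theorem exists_lift_geom' {A B T : Scheme.{u}} (q : A ⟶ B) [Surjective q]
    [LocallyOfFiniteType q] (e : T ≅ Spec (CommRingCat.of Ω)) (b : T ⟶ B) :
    ∃ c : T ⟶ A, c ≫ q = b := by
  let A' : Over B := Over.mk q
  let B' : Over B := Over.mk (𝟙 B)
  let T' : Over B := Over.mk b
  let q' : A' ⟶ B' := Over.homMk q (by simp [A', B'])
  let b' : T' ⟶ B' := Over.homMk b (by simp [T', B'])
  have : Surjective q'.left := ‹Surjective q›
  have : LocallyOfFiniteType q'.left := ‹LocallyOfFiniteType q›
  obtain ⟨c, hc⟩ := exists_lift_geom (A := A') (B := B') (T := T') q' e b'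
  exact ⟨c.left, congrArg (fun m => m.left) hc⟩

/-- A quasi-compact morphism locally of finite type to the spectrum of an algebraically closed field
is finite exactly when it has finitely many sections. -/
theorem isFinite_iff_sections {Z T : Scheme.{u}} (e : T ≅ Spec (CommRingCat.of Ω)) (s : Z ⟶ T)
    [LocallyOfFiniteType s] [QuasiCompact s] :
    IsFinite s ↔ Finite {σ : T ⟶ Z // σ ≫ s = 𝟙 T} := by
  let f : Z ⟶ Spec (CommRingCat.of Ω) := s ≫ e.hom
  have : JacobsonSpace Z := LocallyOfFiniteType.jacobsonSpace f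
  have hT : Subsingleton T := (e.hom.homeomorph.toEquiv).subsingleton
  let E1 : {σ : T ⟶ Z // σ ≫ s = 𝟙 T} ≃ {p : Spec (CommRingCat.of Ω) ⟶ Z // p ≫ f = 𝟙 _} :=
    { toFun := fun σ => ⟨e.inv ≫ σ.1, by simp [f, reassoc_of% σ.2]⟩
      invFun := fun p => ⟨e.hom ≫ p.1, by
        rw [← cancel_mono e.hom]
        have := p.2
        simp only [f] at this
        simp [this]⟩
      left_inv := fun σ => by simp
      right_inv := fun p => by simp }
  have h1 : Finite {σ : T ⟶ Z // σ ≫ s = 𝟙 T} ↔ (closedPoints Z).Finite :=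
    (E1.trans (pointEquivClosedPoint f)).finite_iff
  rw [h1]
  constructor
  · intro _
    by_cases hne : Nonempty Z
    · obtain ⟨z⟩ := hne
      have h2 := s.finite_preimage_singleton (s z)
      have h3 : s ⁻¹' {s z} = Set.univ := by
        ext w
        simp only [Set.mem_preimage, Set.mem_singleton_iff, Set.mem_univ, iff_true]
        exact Subsingleton.elim _ _
      rw [h3] at h2
      exact h2.subset (Set.subset_univ _)
    · have : IsEmpty Z := not_nonempty_iff.mp hne
      exact Set.toFinite _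
  · intro h
    have h2 : (Set.univ : Set Z).Finite := by
      have h3 := JacobsonSpace.closure_inter_closedPoints_eq_closure (X := Z) (S := Set.univ)
        isClosed_univ.isLocallyClosed
      rw [Set.univ_inter, closure_univ] at h3
      have h4 : IsClosed (closedPoints Z) := by
        rw [← Set.biUnion_of_singleton (closedPoints Z)]
        exact h.isClosed_biUnion fun i hi => hi
      rw [← h3, h4.closure_eq]
      exact h
    have h5 : LocallyQuasiFinite s :=
      LocallyQuasiFinite.of_finite_preimage_singleton s fun x => h2.subset (Set.subset_univ _)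
    have h6 : IsLocallyArtinian T := by
      have : IsLocallyArtinian (Spec (CommRingCat.of Ω)) := inferInstance
      exact IsLocallyArtinian.of_locallyQuasiFinite e.hom
    exact IsFinite.of_locallyQuasiFinite s

end field

section stab

variable {G X : Over S} [GrpObj G] (a : AlgGrp.Action G X) {T : Over S} (f : T ⟶ X)

/-- The `T`-points of the stabiliser. -/
def Fix : Type u := {g : T ⟶ G // lift g f ≫ a.act = f}

theorem lift_psi (g : T ⟶ G) : lift g (𝟙 T) ≫ GIT.psi a f = lift (lift g f ≫ a.act) (𝟙 T) := by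
  ext1
  · simp only [GIT.psi, Category.assoc, lift_fst]
    rw [← Category.assoc, lift_whiskerLeft, Category.id_comp]
  · simp [GIT.psi]

/-- Sections of a fibre product of schemes over `S`. -/
noncomputable def sectionsPullback {A C T : Over S} (p : A ⟶ C) (b : T ⟶ C) :
    {σ : T.left ⟶ Limits.pullback p.left b.left // σ ≫ Limits.pullback.snd p.left b.left = 𝟙 T.left} ≃
      {w : T ⟶ A // w ≫ p = b} where
  toFun σ :=
    have h1 : (σ.1 ≫ Limits.pullback.fst _ _) ≫ p.left = b.left := by
      rw [Category.assoc, Limits.pullback.condition, ← Category.assoc, σ.2, Category.id_comp]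
    ⟨Over.homMk (σ.1 ≫ Limits.pullback.fst _ _) (by
      rw [← Over.w p, ← Category.assoc, h1, Over.w]), Over.OverMorphism.ext h1⟩
  invFun w := ⟨Limits.pullback.lift w.1.left (𝟙 T.left) (by
      rw [← Over.comp_left, w.2, Category.id_comp]), Limits.pullback.lift_snd _ _ _⟩
  left_inv σ := by
    apply Subtype.ext
    apply Limits.pullback.hom_ext
    · rw [Limits.pullback.lift_fst]
      rfl
    · rw [Limits.pullback.lift_snd]
      exact σ.2.symm
  right_inv w := by
    apply Subtype.ext
    apply Over.OverMorphism.ext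
    exact Limits.pullback.lift_fst _ _ _

/-- Points of `G ⊗ T` mapping to the graph of `f` are points of `G` fixing `f`. -/
noncomputable def fixEquiv :
    {w : T ⟶ G ⊗ T // w ≫ GIT.psi a f = lift f (𝟙 T)} ≃ Fix a f where
  toFun w := by
    have hw2 : w.1 ≫ snd G T = 𝟙 T := by
      have := congrArg (fun k => k ≫ snd X T) w.2
      simpa [GIT.psi] using this
    refine ⟨w.1 ≫ fst G T, ?_⟩
    have h3 : w.1 = lift (w.1 ≫ fst G T) (𝟙 T) := by
      ext1 <;> simp [hw2]
    have h4 : lift (w.1 ≫ fst G T) (𝟙 T) ≫ GIT.psi a f = lift f (𝟙 T) := by rw [← h3]; exact w.2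
    rw [lift_psi] at h4
    have := congrArg (fun k => k ≫ fst X T) h4
    simpa using this
  invFun g := ⟨lift g.1 (𝟙 T), by rw [lift_psi, g.2]⟩
  left_inv w := by
    have hw2 : w.1 ≫ snd G T = 𝟙 T := by
      have := congrArg (fun k => k ≫ snd X T) w.2
      simpa [GIT.psi] using this
    apply Subtype.ext
    change lift (w.1 ≫ fst G T) (𝟙 T) = w.1
    ext1 <;> simp [hw2]
  right_inv g := by
    apply Subtype.ext
    change lift g.1 (𝟙 T) ≫ fst G T = g.1
    rw [lift_fst]

/-- Sections of the stabiliser are points of `G` fixing `f`. -/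
noncomputable def sectionsEquiv :
    {σ : T.left ⟶ GLinSh.stab a f // σ ≫ GLinSh.stabTo a f = 𝟙 T.left} ≃ Fix a f :=
  (sectionsPullback (GIT.psi a f) (lift f (𝟙 T))).trans (fixEquiv a f)

end stab

section props

variable {G X : Over S} [GrpObj G] (a : AlgGrp.Action G X) {T : Over S} (f : T ⟶ X)

theorem locallyOfFiniteType_stabTo [LocallyOfFiniteType G.hom] :
    LocallyOfFiniteType (GLinSh.stabTo a f) := by
  have h1 : LocallyOfFiniteType (snd G T).left :=
    inferInstanceAs (LocallyOfFiniteType (Limits.pullback.snd G.hom T.hom))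
  have h2 : (GIT.psi a f).left ≫ (snd X T).left = (snd G T).left := by
    rw [← Over.comp_left]
    simp [GIT.psi]
  have h3 : LocallyOfFiniteType (GIT.psi a f).left := by
    have : LocallyOfFiniteType ((GIT.psi a f).left ≫ (snd X T).left) := by rw [h2]; exact h1
    exact locallyOfFiniteType_of_comp _ (snd X T).left
  exact inferInstanceAs (LocallyOfFiniteType (Limits.pullback.snd _ _))

theorem quasiCompact_stabTo [QuasiCompact G.hom] [IsSeparated X.hom] :
    QuasiCompact (GLinSh.stabTo a f) := by
  have h1 : QuasiCompact (snd G T).left :=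
    inferInstanceAs (QuasiCompact (Limits.pullback.snd G.hom T.hom))
  have h0 : QuasiSeparated (snd X T).left :=
    inferInstanceAs (QuasiSeparated (Limits.pullback.snd X.hom T.hom))
  have h2 : (GIT.psi a f).left ≫ (snd X T).left = (snd G T).left := by
    rw [← Over.comp_left]
    simp [GIT.psi]
  have h3 : QuasiCompact (GIT.psi a f).left := by
    have : QuasiCompact ((GIT.psi a f).left ≫ (snd X T).left) := by rw [h2]; exact h1
    exact QuasiCompact.of_comp _ (snd X T).left
  exact inferInstanceAs (QuasiCompact (Limits.pullback.snd _ _))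

theorem isFinite_stabTo_iff [LocallyOfFiniteType G.hom] [QuasiCompact G.hom] [IsSeparated X.hom]
    {Ω : Type u} [Field Ω] [IsAlgClosed Ω] (e : T.left ≅ Spec (CommRingCat.of Ω)) :
    IsFinite (GLinSh.stabTo a f) ↔ Finite (Fix a f) := by
  have := locallyOfFiniteType_stabTo a f
  have := quasiCompact_stabTo a f
  rw [isFinite_iff_sections e]
  exact (sectionsEquiv a f).finite_iff

end props

section ext

variable {H N Q X Y : Over S} [GrpObj H] [GrpObj N] [GrpObj Q] {i : N ⟶ H} {q : H ⟶ Q}
  {a : AlgGrp.Action H X} {aN : AlgGrp.Action N X} {aQ : AlgGrp.Action Q Y} {π : X ⟶ Y}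

/-- For a geometric point, the stabiliser in `Q` of the image is finite on points exactly when the
stabiliser in `H` is, provided the stabiliser in `N` is. -/
theorem finite_fix_iff [IsMonHom i] [IsMonHom q] [Surjective q.left] [LocallyOfFiniteType q.left]
    [LocallyOfFiniteType N.hom]
    [LocallyOfFiniteType X.hom] (haN : aN.act = (i ▷ X) ≫ a.act)
    (hker : AlgGrp.IsKernel i q)
    (hi : GIT.IsInvariant aN π) (ho : Function.Surjective (GIT.PsiY aN π hi).base)
    (hequiv : (q ⊗ₘ π) ≫ aQ.act = a.act ≫ π)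
    {Ω : Type u} [Field Ω] [IsAlgClosed Ω] {T : Over S} (e : T.left ≅ Spec (CommRingCat.of Ω))
    (f : T ⟶ X) (hfin : Finite (Fix aN f)) :
    Finite (Fix aQ (f ≫ π)) ↔ Finite (Fix a f) := by
  have hres : ∀ (n : T ⟶ N) (x : T ⟶ X), lift n x ≫ aN.act = lift (n ≫ i) x ≫ a.act := by
    intro n x
    rw [haN, ← Category.assoc, lift_whiskerRight]
  have hiq : i ≫ q = 1 := hker.w
  have hinv : ∀ n : T ⟶ N, (n ≫ i) ≫ q = 1 := by
    intro n
    rw [Category.assoc, hiq, Hom.one_def, Hom.one_def, ← Category.assoc]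
    congr 1
    exact toUnit_unique _ _
  have hmulq : ∀ g h : T ⟶ H, (g * h) ≫ q = (g ≫ q) * (h ≫ q) := fun g h => by
    rw [Hom.mul_def, Hom.mul_def, Category.assoc, IsMonHom.mul_hom q, ← Category.assoc]
    congr 1
    ext1 <;> simp
  have hinvq : ∀ g : T ⟶ H, g⁻¹ ≫ q = (g ≫ q)⁻¹ := fun g => by
    have h1 : (g⁻¹ ≫ q) * (g ≫ q) = 1 := by
      rw [← hmulq, inv_mul_cancel, Hom.one_def, Hom.one_def, Category.assoc, IsMonHom.one_hom q]
    exact eq_inv_of_mul_eq_one_left h1
  let r : Fix a f → Fix aQ (f ≫ π) := fun g => ⟨g.1 ≫ q, by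
    rw [← lift_act_comp hequiv, g.2]⟩
  have horb : ∀ x₁ x₂ : T ⟶ X, x₁ ≫ π = x₂ ≫ π → ∃ n : T ⟶ N, lift n x₂ ≫ aN.act = x₁ := by
    intro x₁ x₂ h
    have h' : x₁.left ≫ π.left = x₂.left ≫ π.left := by
      rw [← Over.comp_left, h, Over.comp_left]
    have : Surjective (GIT.PsiY aN π hi) := ⟨ho⟩
    have : LocallyOfFiniteType (GIT.PsiY aN π hi) := by
      have h1 : GIT.PsiY aN π hi ≫ Limits.pullback.snd π.left π.left ≫ X.hom = (N ⊗ X).hom := by
        rw [← Category.assoc, K686.Orbit.PsiY_snd hi, Over.w]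
      have h2 : LocallyOfFiniteType (N ⊗ X).hom := by
        rw [← Over.w (snd N X)]
        have h3 : LocallyOfFiniteType (snd N X).left :=
          inferInstanceAs (LocallyOfFiniteType (Limits.pullback.snd N.hom X.hom))
        infer_instance
      have h4 : LocallyOfFiniteType (GIT.PsiY aN π hi ≫ Limits.pullback.snd π.left π.left ≫ X.hom) := by
        rw [h1]; exact h2
      exact locallyOfFiniteType_of_comp _ (Limits.pullback.snd π.left π.left ≫ X.hom)
    obtain ⟨c, hc⟩ := exists_lift_geom' (GIT.PsiY aN π hi) e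
      (Limits.pullback.lift x₁.left x₂.left h')
    have h1 : c ≫ aN.act.left = x₁.left := by
      rw [← K686.Orbit.PsiY_fst hi, ← Category.assoc, hc, Limits.pullback.lift_fst]
    have h2 : c ≫ (snd N X).left = x₂.left := by
      rw [← K686.Orbit.PsiY_snd hi, ← Category.assoc, hc, Limits.pullback.lift_snd]
    let w : T ⟶ N ⊗ X := Over.homMk c (by
      rw [← Over.w (snd N X), ← Category.assoc, h2, Over.w])
    have hw1 : w ≫ aN.act = x₁ := by ext1; exact h1
    have hw2 : w ≫ snd N X = x₂ := by ext1; exact h2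
    refine ⟨w ≫ fst N X, ?_⟩
    rw [← hw1, ← hw2]
    congr 1
    ext1 <;> simp
  have hr : Function.Surjective r := by
    rintro ⟨g', hg'⟩
    obtain ⟨h, hh⟩ := exists_lift_geom q e g'
    have h1 : (lift h f ≫ a.act) ≫ π = f ≫ π := by
      rw [lift_act_comp hequiv, hh, hg']
    obtain ⟨n, hn⟩ := horb f (lift h f ≫ a.act) h1.symm
    refine ⟨⟨(n ≫ i) * h, ?_⟩, ?_⟩
    · rw [mul_lift, ← hres, hn]
    · apply Subtype.ext
      change ((n ≫ i) * h) ≫ q = g'
      rw [hmulq, hinv, _root_.one_mul, hh]
  constructor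
  · intro hQ
    let s : Fix aQ (f ≫ π) → Fix a f := fun y => (hr y).choose
    have hs : ∀ y, r (s y) = y := fun y => (hr y).choose_spec
    let m : Fix aQ (f ≫ π) × Fix aN f → Fix a f := fun p => ⟨(s p.1).1 * (p.2.1 ≫ i), by
      rw [mul_lift, ← hres, p.2.2, (s p.1).2]⟩
    refine Finite.of_surjective m fun g => ?_
    have h1 : r (s (r g)) = r g := hs (r g)
    have h2 : (s (r g)).1 ≫ q = g.1 ≫ q := congrArg Subtype.val h1
    have h3 : ((s (r g)).1⁻¹ * g.1) ≫ q = toUnit T ≫ η[Q] := by
      rw [hmulq, hinvq, h2, inv_mul_cancel, Hom.one_def]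
    let n : T ⟶ N := hker.lift ((s (r g)).1⁻¹ * g.1) (toUnit T) h3
    have hn : n ≫ i = (s (r g)).1⁻¹ * g.1 := hker.lift_fst _ _ _
    have hn2 : lift n f ≫ aN.act = f := by
      have h4 : lift (s (r g)).1⁻¹ (lift (s (r g)).1 f ≫ a.act) ≫ a.act = f := by
        rw [← mul_lift, inv_mul_cancel, one_lift]
      rw [(s (r g)).2] at h4
      rw [hres, hn, mul_lift, g.2, h4]
    refine ⟨(r g, ⟨n, hn2⟩), ?_⟩
    apply Subtype.ext
    change (s (r g)).1 * (n ≫ i) = g.1
    rw [hn, mul_inv_cancel_left]
  · intro hH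
    exact Finite.of_surjective r hr

end ext

end K850.StabFin
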