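import Groth.Agent.GIT.K686.Orbit
import Groth.Prelude.Def_GLinSh
import Mathlib.AlgebraicGeometry.AlgClosed.Basic

/-!
# Points of an action after surjective base change; orbits of an extension of groups
-/

set_option autoImplicit false
universe u
open CategoryTheory MonoidalCategory CartesianMonoidalCategory MonObj GrpObj AlgebraicGeometry Topology

namespace K850.Points

variable {S : Scheme.{u}}

section general

variable {G X : Over S} [GrpObj G] (a : AlgGrp.Action G X)

/-- Compatibility of the action with multiplication on points. -/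
theorem mul_lift {T : Over S} (g h : T ⟶ G) (x : T ⟶ X) :
    lift (g * h) x ≫ a.act = lift g (lift h x ≫ a.act) ≫ a.act := by
  have h1 := congr(lift (lift g h) x ≫ $(a.mul_act))
  rw [Hom.mul_def]
  simpa using h1

theorem one_lift {T : Over S} (x : T ⟶ X) : lift 1 x ≫ a.act = x := by
  have h1 := congr(lift (toUnit T) x ≫ $(a.one_act))
  simpa [Hom.one_def] using h1

end general

/-- Lifting a point along a surjective morphism after a surjective base change. -/
theorem exists_lift_surj {A B T : Over S} (q : A ⟶ B) [Surjective q.left] (b : T ⟶ B) :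
    ∃ (T' : Over S) (p : T' ⟶ T) (c : T' ⟶ A), Surjective p.left ∧ c ≫ q = p ≫ b := by
  have hw := Limits.pullback.condition (f := q.left) (g := b.left)
  let T' : Over S := Over.mk (Limits.pullback.snd q.left b.left ≫ T.hom)
  let p : T' ⟶ T := Over.homMk (Limits.pullback.snd q.left b.left) rfl
  let c : T' ⟶ A := Over.homMk (Limits.pullback.fst q.left b.left) (by
    rw [← Over.w q, ← Category.assoc, hw, Category.assoc, Over.w]
    rfl)
  refine ⟨T', p, c, inferInstanceAs (Surjective (Limits.pullback.snd _ _)), ?_⟩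
  ext1
  exact hw

/-- Common points. -/
theorem exists_common {A B C : Over S} (u : A ⟶ C) (v : B ⟶ C) (x : A.left) (y : B.left)
    (h : u.left x = v.left y) :
    ∃ (T : Over S) (c : T ⟶ A) (d : T ⟶ B) (w : T.left), c ≫ u = d ≫ v ∧ c.left w = x ∧
      d.left w = y := by
  obtain ⟨w, hw1, hw2⟩ := Scheme.Pullback.exists_preimage_pullback x y h
  have hw := Limits.pullback.condition (f := u.left) (g := v.left)
  let T : Over S := Over.mk (Limits.pullback.fst u.left v.left ≫ A.hom)
  let c : T ⟶ A := Over.homMk (Limits.pullback.fst u.left v.left) rfl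
  let d : T ⟶ B := Over.homMk (Limits.pullback.snd u.left v.left) (by
    rw [← Over.w v, ← Category.assoc, ← hw, Category.assoc, Over.w]
    rfl)
  refine ⟨T, c, d, w, ?_, hw1, hw2⟩
  ext1
  exact hw

/-- Lifting geometric points along surjective morphisms locally of finite type. -/
theorem exists_lift_geom {A B : Over S} (q : A ⟶ B) [Surjective q.left]
    [LocallyOfFiniteType q.left] {Ω : Type u} [Field Ω] [IsAlgClosed Ω] {T : Over S}
    (e : T.left ≅ Spec (CommRingCat.of Ω)) (b : T ⟶ B) : ∃ c : T ⟶ A, c ≫ q = b := by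
  let P := Limits.pullback q.left b.left
  let f : P ⟶ Spec (CommRingCat.of Ω) := Limits.pullback.snd q.left b.left ≫ e.hom
  have hne : Nonempty P := by
    have hs : Surjective (Limits.pullback.snd q.left b.left) := inferInstance
    obtain ⟨x, -⟩ := hs.surj (e.inv (IsLocalRing.closedPoint Ω))
    exact ⟨x⟩
  have : JacobsonSpace P := LocallyOfFiniteType.jacobsonSpace f
  have hcl : (closedPoints P).Nonempty := by
    rw [← closure_nonempty_iff]
    have h1 := JacobsonSpace.closure_inter_closedPoints_eq_closure (X := P) (S := Set.univ)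
      isClosed_univ.isLocallyClosed
    rw [Set.univ_inter, closure_univ] at h1
    rw [h1]
    exact Set.univ_nonempty
  obtain ⟨x, hx⟩ := hcl
  let s := pointOfClosedPoint f x hx
  have hs : s ≫ f = 𝟙 _ := pointOfClosedPoint_comp f x hx
  have h2 : e.hom ≫ s ≫ Limits.pullback.snd q.left b.left = 𝟙 _ := by
    rw [← cancel_mono e.hom]
    have : (e.hom ≫ s ≫ Limits.pullback.snd q.left b.left) ≫ e.hom = e.hom ≫ s ≫ f := by
      simp [f]
    rw [this, hs]
    simp
  have hw := Limits.pullback.condition (f := q.left) (g := b.left)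
  have h3 : (e.hom ≫ s ≫ Limits.pullback.fst q.left b.left) ≫ q.left = b.left := by
    rw [Category.assoc, Category.assoc, hw]
    have : e.hom ≫ s ≫ Limits.pullback.snd q.left b.left ≫ b.left =
      (e.hom ≫ s ≫ Limits.pullback.snd q.left b.left) ≫ b.left := by simp
    rw [this, h2, Category.id_comp]
  refine ⟨Over.homMk (e.hom ≫ s ≫ Limits.pullback.fst q.left b.left) ?_, ?_⟩
  · rw [← Over.w q, ← Category.assoc, h3, Over.w]
  · ext1
    exact h3

section orbits

variable {H N Q X Y : Over S} [GrpObj H] [GrpObj N] [GrpObj Q] {i : N ⟶ H} {q : H ⟶ Q}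
  {a : AlgGrp.Action H X} {aN : AlgGrp.Action N X} {aQ : AlgGrp.Action Q Y} {π : X ⟶ Y}

theorem psi_comp (hequiv : (q ⊗ₘ π) ≫ aQ.act = a.act ≫ π) {T : Over S} (f : T ⟶ X) :
    GIT.psi a f ≫ (π ▷ T) = (q ▷ T) ≫ GIT.psi aQ (f ≫ π) := by
  ext1
  · simp only [GIT.psi, Category.assoc, whiskerRight_fst, lift_fst_assoc, lift_fst]
    rw [← hequiv]
    rw [← Category.assoc, ← Category.assoc]
    congr 1
    ext1 <;> simp
  · simp [GIT.psi]

/-- The equivariance on points. -/
theorem lift_act_comp (hequiv : (q ⊗ₘ π) ≫ aQ.act = a.act ≫ π) {T : Over S} (h : T ⟶ H)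
    (x : T ⟶ X) : (lift h x ≫ a.act) ≫ π = lift (h ≫ q) (x ≫ π) ≫ aQ.act := by
  rw [Category.assoc, ← hequiv, ← Category.assoc]
  congr 1
  ext1 <;> simp

/-- The `H`-orbit of a `T`-point of `X` is the preimage of the `Q`-orbit of its image in `Y`. -/
theorem range_psi_eq [Surjective q.left] (haN : aN.act = (i ▷ X) ≫ a.act)
    (hi : GIT.IsInvariant aN π) (ho : Function.Surjective (GIT.PsiY aN π hi).base)
    (hequiv : (q ⊗ₘ π) ≫ aQ.act = a.act ≫ π) {T : Over S} (f : T ⟶ X) :
    Set.range (GIT.psi a f).left = (π ▷ T).left ⁻¹' Set.range (GIT.psi aQ (f ≫ π)).left := by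
  apply Set.Subset.antisymm
  · rintro _ ⟨z, rfl⟩
    refine ⟨(q ▷ T).left z, ?_⟩
    rw [← Scheme.Hom.comp_apply, ← Scheme.Hom.comp_apply, ← Over.comp_left, ← Over.comp_left,
      psi_comp hequiv]
  · rintro z ⟨y, hy⟩
    obtain ⟨T₁, u₁, u₂, w₁, hu, hz, -⟩ := exists_common (π ▷ T) (GIT.psi aQ (f ≫ π)) z y hy.symm
    have h1 : u₁ ≫ snd X T = u₂ ≫ snd Q T := by
      have := congrArg (fun k => k ≫ snd Y T) hu
      simpa [GIT.psi] using this
    have h2 : (u₁ ≫ fst X T) ≫ π = lift (u₂ ≫ fst Q T) ((u₂ ≫ snd Q T) ≫ f ≫ π) ≫ aQ.act := by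
      have := congrArg (fun k => k ≫ fst Y T) hu
      simp only [Category.assoc, whiskerRight_fst, GIT.psi, lift_fst] at this
      rw [Category.assoc, this, ← Category.assoc]
      congr 1
      ext1 <;> simp
    obtain ⟨T₂, p₂, h, hp₂, hh⟩ := exists_lift_surj q (u₂ ≫ fst Q T)
    have h3 : (p₂ ≫ u₁ ≫ fst X T) ≫ π =
        (lift h (p₂ ≫ (u₂ ≫ snd Q T) ≫ f) ≫ a.act) ≫ π := by
      rw [lift_act_comp hequiv, hh]
      simp only [Category.assoc] at h2 ⊢
      rw [h2, comp_lift_assoc]
    obtain ⟨T₃, p₃, n, hp₃, hn⟩ := K686.Orbit.exists_lift_orbit hi ho _ _ h3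
    obtain ⟨w₂, rfl⟩ := hp₂.surj w₁
    obtain ⟨w₃, rfl⟩ := hp₃.surj w₂
    refine ⟨(lift ((n ≫ i) * (p₃ ≫ h)) (p₃ ≫ p₂ ≫ u₂ ≫ snd Q T)).left w₃, ?_⟩
    have key : lift ((n ≫ i) * (p₃ ≫ h)) (p₃ ≫ p₂ ≫ u₂ ≫ snd Q T) ≫ GIT.psi a f =
        p₃ ≫ p₂ ≫ u₁ := by
      have h4 : lift ((n ≫ i) * (p₃ ≫ h)) (p₃ ≫ p₂ ≫ (u₂ ≫ snd Q T) ≫ f) ≫ a.act =
          p₃ ≫ p₂ ≫ u₁ ≫ fst X T := by
        rw [← hn, haN, mul_lift, ← Category.assoc (lift _ _), lift_whiskerRight, comp_lift_assoc]
      ext1
      · simp only [Category.assoc, GIT.psi, lift_fst] at h4 ⊢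
        rw [← h4, ← Category.assoc, lift_whiskerLeft]
        simp only [Category.assoc]
      · simp only [Category.assoc, GIT.psi, lift_snd, h1]
    rw [← Scheme.Hom.comp_apply, ← Over.comp_left, key, ← hz, Over.comp_left, Over.comp_left,
      Scheme.Hom.comp_apply, Scheme.Hom.comp_apply]

end orbits

end K850.Points
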